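import Cfsg.Agent.ChevalleyStructure.StTheta

/-!
# Subsystem homomorphisms in characteristic two (helper941, task 982 of S5741)

`SubTab D E φ` : `φ` maps the roots of `D` to roots of `E` compatibly with the commutator tables modulo two;
`thetaGL h` : the homomorphism `x̄_r(t) ↦ x_{φ r}(t)` from the Steinberg group of `D` to `E.group K`, `K` of characteristic two.
-/

set_option autoImplicit false

namespace Cfsg.Agent.H941.B5

open Cfsg.Lie Cfsg.Agent.ChevalleyStructure.Elts Cfsg.Agent.ChevalleyStructure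

universe u

/-- compatibility of the tables -/
structure SubTab (D E : ChevalleyDatum) (φ : ℕ → ℕ) : Prop where
  lt : ∀ r < D.nroots, φ r < E.nroots
  ge : ∀ r, D.nroots ≤ r → E.nroots ≤ φ r
  neg : ∀ r < D.nroots, φ (D.neg r) = E.neg (φ r)
  ne : ∀ r < D.nroots, ∀ s < D.nroots, s ≠ r → φ s ≠ φ r
  comm : ∀ r < D.nroots, ∀ s < D.nroots, s ≠ r → s ≠ D.neg r →
    (D.commTerms r s).map (fun c => (φ c.1, c.2.1 % 2, c.2.2)) =
      (E.commTerms (φ r) (φ s)).map (fun c => (c.1, c.2.1 % 2, c.2.2))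

variable {K : Type u} [Field K] [CharP K 2] {D E : ChevalleyDatum} {φ : ℕ → ℕ} (hE : InList E)

theorem cast_mod_two (c : ℤ) : ((c % 2 : ℤ) : K) = (c : K) := by
  have h1 : ((2 : ℤ) : K) = 0 := by
    have := CharP.cast_eq_zero K 2
    exact_mod_cast this
  conv_rhs => rw [← Int.emod_add_mul_ediv c 2]
  rw [Int.cast_add, Int.cast_mul, h1, zero_mul, add_zero]

/-- The map on generators. -/
def gen (φ : ℕ → ℕ) : Fin D.nroots × K → GL E.Idx K := fun p => xG hE (φ p.1) p.2

omit [CharP K 2] in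
theorem lift_stX (h : SubTab D E φ) (r : ℕ) (t : K) :
    FreeGroup.lift (gen (D := D) hE φ) (D.stX r t) = xG hE (φ r) t := by
  by_cases hr : r < D.nroots
  · rw [St.Rels.stX_of_lt hr, FreeGroup.lift_apply_of]; rfl
  · rw [St.Rels.stX_of_not_lt hr, map_one, xG_of_not_lt hE (not_lt.2 (h.ge r (not_lt.1 hr)))]

theorem lift_stWord (h : SubTab D E φ) (w : List (ℕ × K)) :
    FreeGroup.lift (gen (D := D) hE φ) (D.stWord w) = wordG hE (w.map fun p => (φ p.1, p.2)) := by
  show FreeGroup.lift (gen hE φ) ((w.map fun p => D.stX p.1 p.2).prod) =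
    ((w.map fun p => (φ p.1, p.2)).map fun p => xG hE p.1 p.2).prod
  rw [map_list_prod, List.map_map, List.map_map]
  congr 1
  exact List.map_congr_left fun p _ => lift_stX hE h p.1 p.2

theorem commWord_map (h : SubTab D E φ) {r s : ℕ} (hr : r < D.nroots) (hs : s < D.nroots) (hsr : s ≠ r)
    (hsn : s ≠ D.neg r) (t u : K) :
    (D.commWord K r s t u).map (fun p => (φ p.1, p.2)) = E.commWord K (φ r) (φ s) t u := by
  have h1 := congrArg (List.map fun c : ℕ × ℤ × ℕ × ℕ => (c.1, (c.2.1 : K) * (-t) ^ c.2.2.1 * u ^ c.2.2.2))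
    (h.comm r hr s hs hsr hsn)
  rw [List.map_map, List.map_map] at h1
  unfold ChevalleyDatum.commWord
  rw [List.map_map]
  calc _ = (D.commTerms r s).map ((fun c : ℕ × ℤ × ℕ × ℕ => (c.1, (c.2.1 : K) * (-t) ^ c.2.2.1 * u ^ c.2.2.2)) ∘
        fun c => (φ c.1, c.2.1 % 2, c.2.2)) := by
        refine List.map_congr_left fun c _ => ?_
        simp only [Function.comp_apply]
        rw [cast_mod_two]
    _ = _ := h1
    _ = _ := by
        refine List.map_congr_left fun c _ => ?_
        simp only [Function.comp_apply]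
        rw [cast_mod_two]

theorem lift_rel (h : SubTab D E φ) (hneg : ∀ r < D.nroots, D.neg r < D.nroots ∧ D.neg (D.neg r) = r) :
    ∀ r ∈ D.steinbergRels K, FreeGroup.lift (gen hE φ) r = 1 := by
  rintro g ((⟨r, t₁, t₂, _, rfl⟩ | ⟨r, s, t, u, hr, hs, hsr, hsn, rfl⟩) | ⟨r, t₁, t₂, hr, h₁, h₂, rfl⟩)
  · rw [map_mul, map_mul, map_inv, lift_stX hE h, lift_stX hE h, lift_stX hE h, xG_add, mul_inv_cancel]
  · rw [map_mul, map_mul, map_mul, map_mul, map_inv, map_inv, map_inv, lift_stX hE h, lift_stX hE h,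
      lift_stWord hE h, commWord_map h hr hs hsr hsn]
    have h0 : xG hE (φ s) u * xG hE (φ r) t = xG hE (φ r) t * xG hE (φ s) u *
        wordG hE (E.commWord K (φ r) (φ s) t u) := by
      apply Units.ext
      rw [Units.val_mul, Units.val_mul, Units.val_mul, coe_xG, coe_xG, coe_wordG]
      refine Cfsg.Agent.S1025.result E hE (φ r) (φ s) (h.lt r hr) (h.lt s hs) (h.ne r hr s hs hsr) ?_ t u
      rw [← h.neg r hr]
      exact h.ne _ (hneg r hr).1 s hs hsn
    have h' : (xG hE (φ s) u)⁻¹ * (xG hE (φ r) t)⁻¹ * xG hE (φ s) u * xG hE (φ r) t =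
        wordG hE (E.commWord K (φ r) (φ s) t u) := by
      rw [mul_assoc ((xG hE (φ s) u)⁻¹ * (xG hE (φ r) t)⁻¹), h0]; group
    rw [h', mul_inv_cancel]
  · show FreeGroup.lift (gen hE φ) (D.stWord (D.hWord r t₁) * D.stWord (D.hWord r t₂) *
      (D.stWord (D.hWord r (t₁ * t₂)))⁻¹) = 1
    have hw : ∀ t : K, (D.hWord r t).map (fun p => (φ p.1, p.2)) = E.hWord (φ r) t := by
      intro t
      simp only [ChevalleyDatum.hWord, ChevalleyDatum.nWord, List.map_append, List.map_cons, List.map_nil,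
        h.neg r hr]
    rw [map_mul, map_mul, map_inv, lift_stWord hE h, lift_stWord hE h, lift_stWord hE h, hw, hw, hw]
    have h0 : wordG hE (E.hWord (φ r) t₁) * wordG hE (E.hWord (φ r) t₂) = wordG hE (E.hWord (φ r) (t₁ * t₂)) := by
      apply Units.ext
      rw [Units.val_mul, coe_wordG, coe_wordG, coe_wordG]
      exact Cfsg.Agent.S1076.result E hE (φ r) (h.lt r hr) t₁ t₂ h₁ h₂
    rw [h0, mul_inv_cancel]

/-- the homomorphism -/
noncomputable def sub (h : SubTab D E φ) (hneg : ∀ r < D.nroots, D.neg r < D.nroots ∧ D.neg (D.neg r) = r) :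
    D.SteinbergGroup K →* GL E.Idx K :=
  PresentedGroup.toGroup (f := gen hE φ) (lift_rel hE h hneg)

theorem sub_stGen (h : SubTab D E φ) (hneg : ∀ r < D.nroots, D.neg r < D.nroots ∧ D.neg (D.neg r) = r) (r : ℕ) (t : K) :
    sub hE h hneg (D.stGen K r t) = xG hE (φ r) t := by
  by_cases hr : r < D.nroots
  · rw [St.Rels.stGen_of_lt hr]
    exact PresentedGroup.toGroup.of (lift_rel hE h hneg)
  · rw [St.Rels.stGen_of_not_lt hr, map_one, xG_of_not_lt hE (not_lt.2 (h.ge r (not_lt.1 hr)))]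

end Cfsg.Agent.H941.B5
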