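import Cfsg.Agent.H941.B5.SubMap

/-!
# `D₄` (long roots) in `F₄`: the table (helper941, task 982 of S5741)
-/

set_option autoImplicit false

namespace Cfsg.Agent.H941.B5

open Cfsg.Lie Cfsg.Agent.ChevalleyStructure.Elts Cfsg.Agent.ChevalleyStructure

/-- the roots of `D₄` as long roots of `F₄` -/
def lrL : List ℕ := [0, 1, 15, 4, 21, 22, 2, 16, 5, 23, 17, 6, 41, 30, 24, 42, 31, 45, 25, 26, 43, 32, 46, 47]

/-- the roots of `D₄` as long roots of `F₄` -/
def lr (r : ℕ) : ℕ := lrL.getD r 48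

theorem lr_neg : ∀ r < 24, lr (chevD4.neg r) = chevF4.neg (lr r) := by decide +kernel
theorem lr_lt : ∀ r < 24, lr r < 48 := by decide +kernel
theorem lr_ne : ∀ r < 24, ∀ s < 24, s ≠ r → lr s ≠ lr r := by decide +kernel
theorem neg_D4 : ∀ r < 24, chevD4.neg r < 24 ∧ chevD4.neg (chevD4.neg r) = r := by decide +kernel

/-- the check at `(r, s)` -/
def chk (r s : ℕ) : Bool :=
  decide (s = r) || decide (s = chevD4.neg r) ||
    decide ((chevD4.commTerms r s).map (fun c => (lr c.1, c.2.1 % 2, c.2.2)) =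
      (chevF4.commTerms (lr r) (lr s)).map (fun c => (c.1, c.2.1 % 2, c.2.2)))

theorem chk_all : ∀ r < 24, ∀ s < 24, chk r s = true := by decide +kernel

theorem lr_comm : ∀ r < 24, ∀ s < 24, s ≠ r → s ≠ chevD4.neg r →
    (chevD4.commTerms r s).map (fun c => (lr c.1, c.2.1 % 2, c.2.2)) =
      (chevF4.commTerms (lr r) (lr s)).map (fun c => (c.1, c.2.1 % 2, c.2.2)) := by
  intro r hr s hs h1 h2
  have h := chk_all r hr s hs
  unfold chk at h
  rw [Bool.or_eq_true, Bool.or_eq_true, decide_eq_true_eq, decide_eq_true_eq, decide_eq_true_eq] at h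
  exact (h.resolve_left fun h3 => h3.elim h1 h2)

theorem lr_ge (r : ℕ) (h : 24 ≤ r) : 48 ≤ lr r := by
  unfold lr
  rw [List.getD_eq_default _ _ (by exact h)]

theorem tab : SubTab chevD4 chevF4 lr := ⟨lr_lt, lr_ge, lr_neg, lr_ne, lr_comm⟩

end Cfsg.Agent.H941.B5
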